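import Mathlib
import Cfsg.Agent.Lib.TwoGrp.Bicyc2
import Cfsg.Agent.S3559

/-! Products of a cyclic group and a `Z`-group: bicyclic Sylow `2`-subgroups and the `2`-rank. -/

set_option autoImplicit false

namespace CfsgLib.CycZ

open Subgroup Tech TwoGrp.Bic

variable {G : Type*} [Group G] {A B : Subgroup G}

/-- `G = AB` with `A` cyclic and `B` a `Z`-group. -/
structure CZ (A B : Subgroup G) : Prop where
  cyc : IsCyclic A
  zg : IsZGroup B
  mul : ∀ g : G, ∃ a ∈ A, ∃ b ∈ B, g = a * b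

theorem CZ.comm (h : CZ A B) {x y : G} (hx : x ∈ A) (hy : y ∈ A) : x * y = y * x :=
  haveI := h.cyc
  congrArg Subtype.val (IsCyclic.isMulCommutative.is_comm.comm (⟨x, hx⟩ : A) ⟨y, hy⟩)

theorem CZ.mem_core (h : CZ A B) {M : Subgroup G} (hM : B ≤ M) {x : G} (hx : x ∈ M)
    (hc : ∀ a ∈ A, a * x = x * a) : x ∈ M.normalCore := fun g => by
  obtain ⟨a, ha, b, hb, e⟩ := h.mul g⁻¹
  have : g * x * g⁻¹ = b⁻¹ * x * b := by
    rw [← inv_inv g, e]
    calc (a * b)⁻¹ * x * (a * b)⁻¹⁻¹ = b⁻¹ * (a⁻¹ * (x * a)) * b := by group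
      _ = _ := by rw [← hc a ha]; group
  rw [this]
  exact mul_mem (mul_mem (inv_mem (hM hb)) hx) (hM hb)

theorem CZ.disj (h : CZ A B) {M : Subgroup G} (hM : B ≤ M) (h0 : M.normalCore = ⊥) {x : G}
    (hA : x ∈ A) (hx : x ∈ M) : x = 1 :=
  mem_bot.1 (h0 ▸ h.mem_core hM hx fun _ ha => h.comm ha hA)

theorem CZ.card [Finite G] (h : CZ A B) (hd : ∀ x ∈ A, x ∈ B → x = 1) :
    Nat.card A * Nat.card B = Nat.card G :=
  (isComplement'_of_disjoint_and_mul_eq_univ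
    (disjoint_def.2 fun ha hb => hd _ ha hb) (Set.eq_univ_of_forall fun g => by
      obtain ⟨a, ha, b, hb, rfl⟩ := h.mul g
      exact Set.mul_mem_mul ha hb)).card_mul_card

theorem exists_gen {T : Subgroup G} (h : IsCyclic T) : ∃ a, zpowers a = T :=
  (Subgroup.isCyclic_iff_exists_zpowers_eq_top T).1 h

/-- The Sylow `2`-subgroups are bicyclic. -/
theorem CZ.exists_bicyclic [Finite G] (h : CZ A B) (hd : ∀ x ∈ A, x ∈ B → x = 1) :
    ∃ (P : Sylow 2 G) (a b : (P : Subgroup G)), IsSylowIn 2 (zpowers (a : G)) A ∧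
      IsSylowIn 2 (zpowers (b : G)) B ∧ ∀ g, ∃ i j : ℤ, g = a ^ i * b ^ j := by
  have : Fact (Nat.Prime 2) := ⟨Nat.prime_two⟩
  have := h.cyc
  have := h.zg
  obtain ⟨TA, hTA⟩ := exists_isSylowIn 2 A
  obtain ⟨TB, hTB⟩ := exists_isSylowIn 2 B
  obtain ⟨a, rfl⟩ := exists_gen (isCyclic_of_le hTA.le)
  obtain ⟨P, hP⟩ := hTB.pgroup.exists_le_sylow
  obtain ⟨g, -, hg⟩ := (IsSylowIn.of_sylow_top P).exists_conj_mem (mem_top a) hTA.pgroup
  obtain ⟨u, hu, v, hv, e⟩ := h.mul g⁻¹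
  have ha : a ∈ cj v (P : Subgroup G) := by
    rw [mem_cj]
    have : v⁻¹ * a * v = g * a * g⁻¹ := by
      rw [← inv_inv g, e]
      calc v⁻¹ * a * v = v⁻¹ * (u⁻¹ * (u * a)) * v := by group
        _ = _ := by rw [h.comm hu (hTA.le (mem_zpowers a))]; group
    rwa [this]
  have hTB' := hTB.cj_of_mem hv
  obtain ⟨b, hb⟩ := exists_gen (T := cj v TB)
    (isCyclic_of_surjective _ (subgroupOfEquivOfLe hTB'.le).surjective
      (hH := IsPGroup.isCyclic_of_isZGroup (hTB'.pgroup.comap_subtype (K := B))))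
  have hP' := (IsSylowIn.of_sylow_top P).cj_of_mem (mem_top v)
  have hb' : b ∈ cj v (P : Subgroup G) := cj_mono v hP (hb ▸ mem_zpowers b)
  rw [← hb] at hTB'
  refine ⟨hP'.toSylowTop, ⟨a, ha⟩, ⟨b, hb'⟩, hTA, hTB', fun x => ?_⟩
  let f : zpowers a × zpowers b → cj v (P : Subgroup G) := fun k =>
    ⟨k.1 * k.2, mul_mem (zpowers_le.2 ha k.1.2) (zpowers_le.2 hb' k.2.2)⟩
  have hf : Function.Bijective f := by
    refine (Nat.bijective_iff_injective_and_card f).2 ⟨fun k l e => ?_, ?_⟩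
    · have e1 : (k.1 : G) * k.2 = l.1 * l.2 := congrArg Subtype.val e
      have e2 : (l.1 : G)⁻¹ * k.1 = l.2 * (k.2 : G)⁻¹ := by
        rw [inv_mul_eq_iff_eq_mul, ← mul_assoc, ← e1, mul_inv_cancel_right]
      have e3 := hd _ (hTA.le (mul_mem (inv_mem l.1.2) k.1.2))
        (e2 ▸ hTB'.le (mul_mem l.2.2 (inv_mem k.2.2)))
      refine Prod.ext (Subtype.ext (inv_mul_eq_one.1 e3).symm) (Subtype.ext ?_)
      rw [e3] at e2
      exact (mul_inv_eq_one.1 e2.symm).symm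
    · rw [Nat.card_prod, hTA.card_eq_pow, hTB'.card_eq_pow, hP'.card_eq_pow, card_top, ← h.card hd,
        Nat.factorization_mul Nat.card_pos.ne' Nat.card_pos.ne', Finsupp.add_apply, pow_add]
  obtain ⟨⟨⟨_, i, rfl⟩, ⟨_, j, rfl⟩⟩, e⟩ := hf.2 x
  exact ⟨i, j, e.symm⟩

/-- An elementary abelian quotient of a subgroup of a bicyclic `2`-group has order at most eight. -/
theorem card_le_eight {P : Type*} [Group P] [Finite P] (hP : IsPGroup 2 P) {x y : P}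
    (h : ∀ g : P, ∃ i j : ℤ, g = x ^ i * y ^ j) (Q : Subgroup P) {E : Type*} [Group E]
    (hE : ∀ e : E, e ^ 2 = 1) (φ : Q →* E) (hφ : Function.Surjective φ) : Nat.card E ≤ 8 := by
  obtain ⟨ht, hl⟩ := lev_top h
  obtain ⟨a, b, -, hab⟩ := Metacyc.exists_gen_of_isMetacyclic
    (BG.metacyclicS (inf_le_right : Q ⊓ B x (y ^ 2) ≤ _) (hl.isMetacyclic hP))
  have hc : ∀ g : P, g ∈ B x (y ^ 2) ∨ y⁻¹ * g ∈ B x (y ^ 2) := fun g =>
    (hl.bi.symm.cases (mem_symm (ht ▸ mem_top g))).imp mem_symm mem_symm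
  obtain ⟨w, hw⟩ : ∃ w : Q, ∀ g : Q, (g : P) ∈ B x (y ^ 2) ∨ ((w⁻¹ * g : Q) : P) ∈ B x (y ^ 2) := by
    by_cases h1 : ∀ g : Q, (g : P) ∈ B x (y ^ 2)
    · exact ⟨1, fun g => Or.inl (h1 g)⟩
    push Not at h1
    obtain ⟨w, hw⟩ := h1
    refine ⟨w, fun g => (hc g).imp_right fun h2 => ?_⟩
    rw [show ((w⁻¹ * g : Q) : P) = (y⁻¹ * w)⁻¹ * (y⁻¹ * g) by simp [mul_assoc]]
    exact mul_mem (inv_mem ((hc w).resolve_left hw)) h2
  let a' : Q := ⟨a, a.2.1⟩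
  let b' : Q := ⟨b, b.2.1⟩
  have key : ∀ g : Q, (g : P) ∈ B x (y ^ 2) → ∃ i j : Fin 2, φ g = φ a' ^ i.1 * φ b' ^ j.1 :=
    fun g hg => by
      obtain ⟨i, j, e⟩ := hab ⟨g, g.2, hg⟩
      have e' : g = a' ^ i * b' ^ j := Subtype.ext (by simpa using congrArg Subtype.val e)
      exact ⟨⟨i % 2, Nat.mod_lt _ two_pos⟩, ⟨j % 2, Nat.mod_lt _ two_pos⟩, by
        rw [e', map_mul, map_pow, map_pow, pow_eq_pow_mod i (hE _), pow_eq_pow_mod j (hE _)]⟩
  have := Nat.card_le_card_of_surjective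
    (fun k : Fin 2 × Fin 2 × Fin 2 => φ w ^ k.1.1 * (φ a' ^ k.2.1.1 * φ b' ^ k.2.2.1)) fun e => by
      obtain ⟨g, rfl⟩ := hφ e
      rcases hw g with h1 | h1
      · obtain ⟨i, j, e⟩ := key g h1
        exact ⟨(0, i, j), by simp [e]⟩
      · obtain ⟨i, j, e⟩ := key _ h1
        exact ⟨(1, i, j), by simp [← e]⟩
  simpa using this

theorem exists_inv {P : Type*} [Group P] (hP : IsPGroup 2 P) {g : P} (hg : g ≠ 1) :
    ∃ u ∈ zpowers g, u ≠ 1 ∧ u ^ 2 = 1 := by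
  have : Fact (Nat.Prime 2) := ⟨Nat.prime_two⟩
  obtain ⟨k, hk⟩ := IsPGroup.iff_orderOf.1 hP g
  rcases k with _ | k
  · exact absurd (orderOf_eq_one_iff.1 hk) hg
  refine ⟨g ^ 2 ^ k, pow_mem (mem_zpowers g) _, pow_ne_one_of_lt_orderOf (by positivity) ?_, ?_⟩
  · rw [hk]; exact Nat.pow_lt_pow_right one_lt_two k.lt_succ_self
  · rw [← pow_mul, ← pow_succ, ← hk, pow_orderOf_eq_one]

theorem central_pair {P : Type*} [Group P] [Finite P] (hP : IsPGroup 2 P) {x y : P}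
    (h : ∀ g : P, ∃ i j : ℤ, g = x ^ i * y ^ j) (hr : ¬ Cfsg.PRankLE 2 2 P) :
    ∃ u ∈ zpowers x, ∃ v ∈ zpowers y, u ≠ 1 ∧ v ≠ 1 ∧ u ^ 2 = 1 ∧ v ^ 2 = 1 ∧ u ∈ center P ∧
      v ∈ center P := by
  obtain ⟨t, ht1, -, ht3⟩ := exists_invol hP h hr
  obtain ⟨ht, hl⟩ := lev_top h
  have hm : ¬ Cfsg.IsMetacyclic P := fun hm => hr (pRankLE_of_isMetacyclic hm)
  have h' : ∀ g : P, ∃ i j : ℤ, g = y ^ i * x ^ j := fun g =>
    hl.bi.symm g (mem_symm (ht ▸ mem_top g))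
  obtain ⟨u, hu, hu1, hu2⟩ := exists_inv hP (g := x ^ 2) fun e => sq_notMem hP h hm (by
    rw [e]; exact one_mem _)
  obtain ⟨v, hv, hv1, hv2⟩ := exists_inv hP (g := y ^ 2) fun e => sq_notMem hP h' hm (by
    rw [e]; exact one_mem _)
  have key : ∀ w ∈ B (x ^ 2) (y ^ 2), w ^ 2 = 1 → x * y ∈ centralizer {w} := fun w hw hw2 => by
    rw [show x * y = t * ((x * y)⁻¹ * t)⁻¹ by group]
    exact mul_mem (mem_centralizer_singleton_iff.2 (ht3 w hw hw2).1)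
      (inv_mem (mem_centralizer_singleton_iff.2 ((ht3 w hw hw2).2 _ ht1)))
  have hc : ∀ {g w : P}, w ∈ zpowers g → g ∈ centralizer {w} := fun {g w} hw => by
    obtain ⟨i, rfl⟩ := hw
    exact mem_centralizer_singleton_iff.2 ((Commute.refl g).zpow_right i)
  have hz : ∀ {w : P}, x ∈ centralizer {w} → y ∈ centralizer {w} → w ∈ center P :=
    fun h1 h2 => mem_center_iff.2 fun g =>
      mem_centralizer_singleton_iff.1 (B_le h1 h2 (ht ▸ mem_top g))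
  have hux : u ∈ zpowers x := zpowers_le.2 (pow_mem (mem_zpowers x) 2) hu
  have hvy : v ∈ zpowers y := zpowers_le.2 (pow_mem (mem_zpowers y) 2) hv
  exact ⟨u, hux, v, hvy, hu1, hv1, hu2, hv2,
    hz (hc hux) ((Subgroup.mul_mem_cancel_left _ (hc hux)).1 (key u (mem_sup_left hu) hu2)),
    hz ((Subgroup.mul_mem_cancel_right _ (hc hvy)).1 (key v (mem_sup_right hv) hv2)) (hc hvy)⟩

theorem eq_of_conj [Finite G] (S : Sylow 2 G) (hA : IsPGroup 2 (MulAut (S : Subgroup G))) {u g : G}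
    (hu : u ∈ centralizer ((S : Subgroup G) : Set G))
    (hg : g * u * g⁻¹ ∈ centralizer ((S : Subgroup G) : Set G)) (huS : u ∈ (S : Subgroup G)) :
    g * u * g⁻¹ = u := by
  have : Fact (Nat.Prime 2) := ⟨Nat.prime_two⟩
  obtain ⟨n, hn, e⟩ := S.conj_eq_normalizer_conj_of_mem_centralizer u g⁻¹ hu (by simpa using hg)
  obtain ⟨r, hr, c, hc, e2⟩ := QDFus.exists_mul_of_coprime_mem
    (Tech.IsSylowIn.of_sylow S le_normalizer)
    (fun k hk ho => QDFus.mem_centralizer_of_isPGroup_mulAut hA hk ho) hn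
  rw [inv_inv] at e
  calc g * u * g⁻¹ = c⁻¹ * (r⁻¹ * (u * r)) * c := by rw [e, e2]; group
    _ = u := by rw [← hu r hr, inv_mul_cancel_left, mul_assoc, hc u huS, inv_mul_cancel_left]

theorem pRankLE_of_sylow [Finite G] (S : Sylow 2 G) {k : ℕ}
    (hS : Cfsg.PRankLE 2 k (S : Subgroup G)) : Cfsg.PRankLE 2 k G := by
  have : Fact (Nat.Prime 2) := ⟨Nat.prime_two⟩
  intro A hA hA2
  obtain ⟨g, -, hg⟩ := (Tech.IsSylowIn.of_sylow_top S).exists_cj_le (Q := A)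
    (Tech.isPGroup_iff_mem.2 fun a ha => ⟨1, by simpa using hA2 a ha⟩) le_top
  have := hS ((Tech.cj g A).subgroupOf S) inferInstance fun a ha => Subtype.ext (by
    have : (g⁻¹ * a * g) ^ 2 = 1 := hA2 _ (Tech.mem_cj.1 ha)
    rw [show g⁻¹ * a * g = g⁻¹ * a * g⁻¹⁻¹ by simp, conj_pow, conj_eq_one_iff] at this
    exact this)
  rwa [Nat.card_congr (subgroupOfEquivOfLe hg).toEquiv, Tech.card_cj] at this

theorem CZ.rank_three [Finite G] (h : CZ A B) (hd : ∀ x ∈ A, x ∈ B → x = 1) :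
    Cfsg.PRankLE 2 3 G := by
  obtain ⟨P, a, b, -, -, hab⟩ := h.exists_bicyclic hd
  exact pRankLE_of_sylow P fun Q _ hQ => card_le_eight P.isPGroup' hab Q
    (fun e => Subtype.ext (hQ e e.2)) (MonoidHom.id Q) Function.surjective_id

/-- The setwise stabiliser of a pair of points. -/
def pair (G : Type*) [Group G] {Ω : Type*} [MulAction G Ω] (α β : Ω) : Subgroup G where
  carrier := {g | (g • α = α ∧ g • β = β) ∨ (g • α = β ∧ g • β = α)}
  one_mem' := Or.inl ⟨one_smul _ _, one_smul _ _⟩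
  mul_mem' := by
    rintro g k (⟨h1, h2⟩ | ⟨h1, h2⟩) (⟨h3, h4⟩ | ⟨h3, h4⟩) <;> simp [mul_smul, h1, h2, h3, h4]
  inv_mem' := by
    rintro g (⟨h1, h2⟩ | ⟨h1, h2⟩) <;> simp [inv_smul_eq_iff, h1, h2]

theorem CZ.two_transitive [Finite G] (h : CZ A B) (hB : B ≠ ⊤)
    (h0 : ∀ M : Subgroup G, B ≤ M → M ≠ ⊤ → M.normalCore = ⊥) (hn : ¬ IsPrimePow (Nat.card A)) :
    MulAction.IsMultiplyPretransitive G (G ⧸ B) 2 := by
  have hd : ∀ x ∈ A, x ∈ B → x = 1 := fun x => h.disj le_rfl (h0 B le_rfl hB)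
  have hc : Nat.card (G ⧸ B) = Nat.card A := by
    have := h.card hd
    rw [card_eq_card_quotient_mul_card_subgroup B] at this
    exact (Nat.eq_of_mul_eq_mul_right Nat.card_pos this).symm
  have hf : FaithfulSMul G (G ⧸ B) := ⟨fun {g k} e => by
    have := (MonoidHom.ker_eq_bot_iff _).1 (B.normalCore_eq_ker ▸ h0 B le_rfl hB)
    exact this (Equiv.ext e)⟩
  have hnt : Nontrivial (G ⧸ B) := QuotientGroup.nontrivial_iff.2 hB
  have htr : ∀ x : G ⧸ B, ∃ a : A, a • ((1 : G) : G ⧸ B) = x := fun x => by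
    obtain ⟨g, rfl⟩ := QuotientGroup.mk_surjective x
    obtain ⟨a, ha, b, hb, rfl⟩ := h.mul g
    exact ⟨⟨a, ha⟩, QuotientGroup.eq.2 (by simpa using hb)⟩
  refine (Cfsg.Agent.S3559.result inferInstance (Finite.one_lt_card_iff_nontrivial.2 hnt)
    (hc ▸ hn) A h.cyc ⟨MulAction.isPretransitive_iff_base _ |>.2 htr, fun x => ?_⟩).resolve_left
    (not_not.2 ?_)
  · refine eq_bot_iff.2 fun c hc => ?_
    obtain ⟨a, rfl⟩ := htr x
    have hc' : c • a • ((1 : G) : G ⧸ B) = a • ((1 : G) : G ⧸ B) := hc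
    rw [← mul_smul, show c * a = a * c from Subtype.ext (h.comm c.2 a.2), mul_smul,
      smul_left_cancel_iff] at hc'
    exact Subtype.ext (hd c c.2 (MulAction.stabilizer_quotient B ▸ hc'))
  · rw [← MulAction.isCoatom_stabilizer_iff_preprimitive G ((1 : G) : G ⧸ B),
      MulAction.stabilizer_quotient]
    refine ⟨hB, fun M hM => by_contra fun h1 => hM.not_ge fun g hg => ?_⟩
    obtain ⟨a, ha, b, hb, rfl⟩ := h.mul g
    rwa [h.disj hM.le (h0 M hM.le h1) ha ((M.mul_mem_cancel_right (hM.le hb)).1 hg), one_mul]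

theorem CZ.rank_two [Finite G] (h : CZ A B) (hB : B ≠ ⊤)
    (h0 : ∀ M : Subgroup G, B ≤ M → M ≠ ⊤ → M.normalCore = ⊥) : Cfsg.PRankLE 2 2 G := by
  have : Fact (Nat.Prime 2) := ⟨Nat.prime_two⟩
  have hd : ∀ x ∈ A, x ∈ B → x = 1 := fun x => h.disj le_rfl (h0 B le_rfl hB)
  obtain ⟨P, a, b, ha, hb, hab⟩ := h.exists_bicyclic hd
  refine pRankLE_of_sylow P (by_contra fun hr => ?_)
  obtain ⟨-, -, -, -, hA, -⟩ := two_group P.isPGroup' hab hr
  obtain ⟨u, hu, v, hv, hu1, hv1, hu2, hv2, hu3, hv3⟩ := central_pair P.isPGroup' hab hr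
  have hm : ∀ {x y : (P : Subgroup G)}, x ∈ zpowers y → (x : G) ∈ zpowers (y : G) :=
    fun ⟨i, e⟩ => ⟨i, congrArg Subtype.val e⟩
  have hz : ∀ {x : (P : Subgroup G)}, x ∈ center (P : Subgroup G) →
      (x : G) ∈ centralizer ((P : Subgroup G) : Set G) :=
    fun hx g hg => congrArg Subtype.val (mem_center_iff.1 hx ⟨g, hg⟩)
  have huA : (u : G) ∈ A := ha.le (hm hu)
  have hvB : (v : G) ∈ B := hb.le (hm hv)
  have hv0 : (v : G) ∉ B.normalCore := fun e => hv1 (Subtype.ext (mem_bot.1 (h0 B le_rfl hB ▸ e)))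
  by_cases hn : IsPrimePow (Nat.card A)
  · obtain ⟨p, k, hp, -, hk⟩ := (isPrimePow_nat_iff _).1 hn
    have h2 : 2 ∣ p ^ k := by
      rw [hk, ← orderOf_eq_prime hu2 hu1, ← orderOf_coe]
      exact A.orderOf_dvd_natCard huA
    obtain rfl := (Nat.prime_dvd_prime_iff_eq Nat.prime_two hp).1 (Nat.prime_two.dvd_of_dvd_pow h2)
    have e := ha.eq_of_le (IsPGroup.of_card hk.symm) ha.le le_rfl
    exact hv0 (h.mem_core le_rfl hvB fun c hc => hz hv3 c (zpowers_le.2 a.2 (e ▸ hc)))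
  obtain ⟨α, hα⟩ : ∃ α : G ⧸ B, ∀ {g : G}, g • α = α ↔ g ∈ B :=
    ⟨(1 : G), fun {g} => by rw [← MulAction.mem_stabilizer_iff, MulAction.stabilizer_quotient]⟩
  obtain ⟨γ, hγ⟩ : ∃ γ : G ⧸ B, γ ≠ (v : G) • γ := by
    by_contra h1
    push Not at h1
    exact hv0 (B.normalCore_eq_ker ▸ Equiv.ext fun γ => (h1 γ).symm)
  have hne : α ≠ (u : G) • α := fun e => hu1 (Subtype.ext (hd _ huA (hα.1 e.symm)))
  have sq : ∀ {x : (P : Subgroup G)}, x ^ 2 = 1 → ∀ δ : G ⧸ B, (x : G) • (x : G) • δ = δ :=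
    fun hx δ => by rw [← mul_smul, ← pow_two, ← coe_pow, hx, coe_one, one_smul]
  obtain ⟨g, hg1, hg2⟩ := MulAction.is_two_pretransitive_iff.1 (h.two_transitive hB h0 hn) hγ hne
  have huK : (u : G) ∈ pair G α ((u : G) • α) := Or.inr ⟨rfl, sq hu2 α⟩
  have hbK : (b : G) ∈ pair G α ((u : G) • α) := Or.inl ⟨hα.2 (hb.le (mem_zpowers _)), by
    rw [← mul_smul, hz hu3 b b.2, mul_smul, hα.2 (hb.le (mem_zpowers _))]⟩
  have hS : IsSylowIn 2 (P ⊓ pair G α ((u : G) • α)) (pair G α ((u : G) • α)) := by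
    refine isSylowIn_of_maximal (P.isPGroup'.to_le inf_le_left) inf_le_right
      fun R hR h3 h4 x hx => ⟨?_, h4 hx⟩
    have e := hb.eq_of_le (hR.to_le (inf_le_left : R ⊓ B ≤ R))
      (zpowers_le.2 ⟨h3 ⟨b.2, hbK⟩, hb.le (mem_zpowers _)⟩) inf_le_right
    have h5 : ∀ y ∈ R, y • α = α → y ∈ (P : Subgroup G) := fun y hy hy' =>
      zpowers_le.2 b.2 (e ▸ ⟨hy, hα.1 hy'⟩)
    rcases h4 hx with h6 | h6
    · exact h5 x hx h6.1
    · exact (Subgroup.mul_mem_cancel_left _ u.2).1 (h5 _ (mul_mem (h3 ⟨u.2, huK⟩) hx)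
        (by rw [mul_smul, h6.1, sq hu2]))
  have hd1 : (g * v * g⁻¹) • α = (u : G) • α := by
    rw [mul_smul, mul_smul, ← hg2, ← hg1, inv_smul_smul]
  have hd2 : (g * v * g⁻¹) • (u : G) • α = α := by
    rw [mul_smul, mul_smul, ← hg2, inv_smul_smul, sq hv2, hg1]
  have hv2' : (v : G) ^ 2 = 1 := congrArg Subtype.val hv2
  obtain ⟨k, hk, he, -⟩ := hS.exists_conj_mem (x := g * v * g⁻¹) (Or.inr ⟨hd1, hd2⟩)
    (isPGroup_zpowers_of_pow (k := 1) (by rw [pow_one, conj_pow, hv2']; simp))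
  have he1 : (k * (g * v * g⁻¹) * k⁻¹) • α = (u : G) • α := by
    rcases inv_mem hk with h3 | h3
    · rw [mul_smul, mul_smul, h3.1, hd1, ← inv_smul_eq_iff.1 h3.2]
    · rw [mul_smul, mul_smul, h3.1, hd2, ← inv_smul_eq_iff.1 h3.2]
  rw [show k * (g * v * g⁻¹) * k⁻¹ = k * g * v * (k * g)⁻¹ by group] at he he1
  have he2 : (u : G) * (k * g * v * (k * g)⁻¹) ∈ zpowers (b : G) :=
    hb.eq_of_le (P.isPGroup'.to_le (inf_le_left : (P : Subgroup G) ⊓ B ≤ P))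
      (zpowers_le.2 ⟨b.2, hb.le (mem_zpowers _)⟩) inf_le_right ▸
      ⟨mul_mem u.2 he, hα.1 (by rw [mul_smul, he1, sq hu2])⟩
  have he3 : ((u : G) * (k * g * v * (k * g)⁻¹)) ^ 2 = 1 := by
    rw [Commute.mul_pow (hz hu3 _ he).symm, conj_pow, hv2', ← coe_pow, hu2]; simp
  have he4 : (u : G) * (k * g * v * (k * g)⁻¹) ∈ centralizer ((P : Subgroup G) : Set G) := by
    by_cases h1 : (u : G) * (k * g * v * (k * g)⁻¹) = 1
    · rw [h1]; exact one_mem _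
    · rw [eq_of_sq_of_isCyclic inferInstance he2 (hm hv) he3 hv2' h1 fun e => hv1 (Subtype.ext e)]
      exact hz hv3
  rw [eq_of_conj P hA (hz hv3) ((Subgroup.mul_mem_cancel_left _ (hz hu3)).1 he4) v.2,
    hα.2 hvB] at he1
  exact hne he1

end CfsgLib.CycZ
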